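import Groth.Agent.Ega41.PowEval
import Groth.Agent.Ega41.PowComplete
import Mathlib.RingTheory.PowerSeries.Inverse
import Mathlib.RingTheory.PowerSeries.Basic
import Mathlib.LinearAlgebra.FreeModule.PID
import Mathlib.RingTheory.HopkinsLevitzki
import Mathlib.RingTheory.Ideal.AssociatedPrime.Finiteness
import Mathlib.RingTheory.LocalRing.ResidueField.Basic

/-!
# One-dimensional complete local algebras are finite free over a power series ring (node N3a)

`exists_powerSeries`: let `K` be a field and `D` a complete noetherian local `K`-algebra with residue field `K`, `x ∈ m` a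
nonzerodivisor with `m ≤ √(x)`.  Then `X ↦ x` makes `D` a finite free module over `K[[X]]`.
-/

set_option autoImplicit false
set_option linter.style.haveILetI false

universe u

open IsLocalRing
open scoped PowerSeries

namespace K639.PowD

open Groth.Agent

/-- An artinian local ring whose residue field is finite over `K` is finite over `K`. -/
theorem finite_of_isArtinianRing {K B : Type u} [Field K] [CommRing B] [Algebra K B]
    [IsLocalRing B] [IsArtinianRing B] (h : Module.Finite K (ResidueField B)) : Module.Finite K B := by
  have key : ∀ (M : Type u) [AddCommGroup M] [Module B M] (hM : Module.Finite B M),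
      letI : Module K M := Module.compHom M (algebraMap K B)
      Module.Finite K M := by
    intro M _ _ hM
    induction hM using IsNoetherianRing.induction_on_isQuotientEquivQuotientPrime B with
    | subsingleton N =>
      letI : Module K N := Module.compHom N (algebraMap K B)
      infer_instance
    | quotient N p f =>
      letI : Module K N := Module.compHom N (algebraMap K B)
      haveI : IsScalarTower K B N := ⟨fun x y z ↦ by
        rw [Algebra.smul_def, mul_smul]; rfl⟩
      have hp : p.1 = maximalIdeal B := IsLocalRing.eq_maximalIdeal inferInstance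
      have f' : (ResidueField B) ≃ₗ[B] N :=
        (Submodule.quotEquivOfEq (maximalIdeal B) p.1 hp.symm).trans f.symm
      exact Module.Finite.of_surjective (f'.toLinearMap.restrictScalars K) f'.surjective
    | exact N₁ N₂ N₃ f g hf hg hfg h₁ h₃ =>
      letI : Module K N₁ := Module.compHom N₁ (algebraMap K B)
      letI : Module K N₂ := Module.compHom N₂ (algebraMap K B)
      letI : Module K N₃ := Module.compHom N₃ (algebraMap K B)
      haveI : IsScalarTower K B N₁ := ⟨fun x y z ↦ by
        rw [Algebra.smul_def, mul_smul]; rfl⟩
      haveI : IsScalarTower K B N₂ := ⟨fun x y z ↦ by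
        rw [Algebra.smul_def, mul_smul]; rfl⟩
      haveI : IsScalarTower K B N₃ := ⟨fun x y z ↦ by
        rw [Algebra.smul_def, mul_smul]; rfl⟩
      haveI : Module.Finite K N₁ := h₁
      haveI : Module.Finite K N₃ := h₃
      exact Module.Finite.of_exact (f := f.restrictScalars K) (g := g.restrictScalars K) hfg hg
  have := key B inferInstance
  have e : (Module.compHom B (algebraMap K B) : Module K B) = Algebra.toModule :=
    Module.ext' _ _ fun r x ↦ by
      rw [Algebra.smul_def]
      rfl
  rwa [e] at this

/-- Node N3a. -/
theorem exists_powerSeries {K : Type u} [Field K] {D : Type u} [CommRing D] [IsNoetherianRing D] [IsLocalRing D]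
    [IsAdicComplete (maximalIdeal D) D] [Algebra K D] (hK : Function.Surjective (algebraMap K (ResidueField D)))
    (x : D) (hx : x ∈ maximalIdeal D) (hx' : maximalIdeal D ≤ (Ideal.span {x}).radical)
    (hreg : ∀ d : D, x * d = 0 → d = 0) :
    ∃ φ : K⟦X⟧ →+* D, φ.comp (PowerSeries.C (R := K)) = algebraMap K D ∧ φ PowerSeries.X = x ∧ φ.Finite ∧
      (letI := φ.toAlgebra; Module.Free K⟦X⟧ D) := by
  let w : MvPowerSeries Unit K →ₐ[K] D := Ega41.PowEval.powEval (maximalIdeal D) (fun _ => x) (fun _ => hx)
  have hwX : w (MvPowerSeries.X ()) = x := Ega41.PowEval.powEval_X _ _ _ _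
  have hwC : ∀ a : K, w (MvPowerSeries.C a) = algebraMap K D a := fun a => Ega41.PowEval.powEval_C _ _ _ a
  let φ : K⟦X⟧ →+* D := w.toRingHom
  have hφX : φ PowerSeries.X = x := hwX
  have hφC : ∀ a : K, φ (PowerSeries.C a) = algebraMap K D a := hwC
  have hfin : φ.Finite := by
    letI : Algebra (MvPowerSeries Unit K) D := w.toRingHom.toAlgebra
    have hwalg : ∀ f, algebraMap (MvPowerSeries Unit K) D f = w f := fun f ↦ rfl
    haveI : IsScalarTower K (MvPowerSeries Unit K) D := IsScalarTower.of_algebraMap_eq fun r ↦ by
      rw [hwalg, w.commutes]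
    set IS : Ideal (MvPowerSeries Unit K) := Ideal.span (Set.range MvPowerSeries.X) with hIS
    haveI hScomp : IsAdicComplete IS (MvPowerSeries Unit K) := Ega41.PowComplete.isAdicComplete_span_X _ _
    set J : Ideal D := Ideal.span {x} with hJ
    have hmap : IS.map (algebraMap (MvPowerSeries Unit K) D) = J := by
      rw [hIS, Ideal.map_span, ← Set.range_comp, hJ]
      congr 1
      ext a
      simp only [Set.mem_range, Function.comp_apply, hwalg, Set.mem_singleton_iff]
      constructor
      · rintro ⟨⟨⟩, rfl⟩
        exact hwX
      · rintro rfl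
        exact ⟨(), hwX⟩
    have hJm : J ≤ maximalIdeal D := (Ideal.span_singleton_le_iff_mem _).2 hx
    have hJtop : J ≠ ⊤ := fun h ↦ (maximalIdeal.isMaximal D).ne_top (top_le_iff.mp (h ▸ hJm))
    haveI hhaus : IsHausdorff IS D := by
      rw [← IsHausdorff.map_algebraMap_iff (S := D), hmap]
      exact IsHausdorff.of_isLocalRing J D hJtop
    haveI : Nontrivial (D ⧸ J) := Ideal.Quotient.nontrivial_iff.mpr hJtop
    haveI : IsLocalRing (D ⧸ J) := IsLocalRing.of_surjective' (Ideal.Quotient.mk J) Ideal.Quotient.mk_surjective
    haveI hloc : IsLocalHom (Ideal.Quotient.mk J) := IsLocalHom.of_surjective _ Ideal.Quotient.mk_surjective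
    haveI : IsNoetherianRing (D ⧸ J) :=
      isNoetherianRing_of_surjective _ _ (Ideal.Quotient.mk J) Ideal.Quotient.mk_surjective
    haveI hart : IsArtinianRing (D ⧸ J) := by
      rw [isArtinianRing_iff_isNilpotent_maximalIdeal]
      obtain ⟨n, hn⟩ := Ideal.exists_radical_pow_le_of_fg J (IsNoetherian.noetherian _)
      refine ⟨n, ?_⟩
      have h1 : maximalIdeal (D ⧸ J) = (maximalIdeal D).map (Ideal.Quotient.mk J) := by
        apply le_antisymm
        · intro y hy
          obtain ⟨y, rfl⟩ := Ideal.Quotient.mk_surjective y
          refine Ideal.mem_map_of_mem _ ?_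
          rw [mem_maximalIdeal, mem_nonunits_iff] at hy ⊢
          exact fun h => hy (h.map _)
        · rw [Ideal.map_le_iff_le_comap]
          intro y hy
          rw [Ideal.mem_comap, mem_maximalIdeal, mem_nonunits_iff]
          rw [mem_maximalIdeal, mem_nonunits_iff] at hy
          exact fun h => hy (isUnit_of_map_unit _ _ h)
      rw [h1, ← Ideal.map_pow, Ideal.zero_eq_bot, eq_bot_iff, Ideal.map_le_iff_le_comap, ← RingHom.ker_eq_comap_bot, Ideal.mk_ker]
      exact (Ideal.pow_right_mono hx' n).trans hn
    have hfin0 : Module.Finite K (ResidueField (D ⧸ J)) := by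
      let ψ : ResidueField D →ₐ[K] ResidueField (D ⧸ J) :=
        { ResidueField.map (Ideal.Quotient.mk J) with
          commutes' := fun r ↦ rfl }
      have hψ : Function.Surjective ψ := by
        intro y
        obtain ⟨b, rfl⟩ := residue_surjective y
        obtain ⟨a, rfl⟩ := Ideal.Quotient.mk_surjective b
        exact ⟨residue D a, rfl⟩
      have : Module.Finite K (ResidueField D) := Module.Finite.of_surjective (Algebra.linearMap K (ResidueField D)) hK
      exact Module.Finite.of_surjective ψ.toLinearMap hψ
    have hfin1 : Module.Finite K (D ⧸ J) := finite_of_isArtinianRing hfin0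
    have hfin : Module.Finite (MvPowerSeries Unit K) (D ⧸ (IS • ⊤ : Submodule (MvPowerSeries Unit K) D)) := by
      have e : (IS • ⊤ : Submodule (MvPowerSeries Unit K) D) =
          J.restrictScalars (MvPowerSeries Unit K) := by
        rw [Ideal.smul_top_eq_map, hmap]
      rw [e]
      haveI : Module.Finite (MvPowerSeries Unit K) (D ⧸ J) :=
        Module.Finite.of_restrictScalars_finite K _ _
      exact Module.Finite.equiv (Submodule.Quotient.restrictScalarsEquiv (MvPowerSeries Unit K) J).symm
    exact Ega41.PowComplete.finite_of_complete IS hfin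
  refine ⟨φ, RingHom.ext hφC, hφX, hfin, ?_⟩
  letI := φ.toAlgebra
  haveI : Module.Finite K⟦X⟧ D := hfin
  haveI : Module.IsTorsionFree K⟦X⟧ D := by
    refine Module.IsTorsionFree.of_smul_eq_zero fun f d hfd => ?_
    by_cases hf : f = 0
    · exact Or.inl hf
    refine Or.inr ?_
    have h1 : ∀ (n : ℕ) (d : D), x ^ n * d = 0 → d = 0 := by
      intro n
      induction n with
      | zero => intro d hd; simpa using hd
      | succ n ih =>
        intro d hd
        rw [pow_succ, mul_assoc] at hd
        exact hreg _ (ih _ hd)
    have h2 : φ f * d = 0 := hfd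
    rw [← PowerSeries.X_pow_order_mul_divXPowOrder (f := f), map_mul, map_pow, hφX, mul_assoc] at h2
    exact ((PowerSeries.isUnit_divided_by_X_pow_order hf).map φ).mul_right_eq_zero.1 (h1 _ _ h2)
  exact Module.free_of_finite_type_torsion_free'

end K639.PowD
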